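import Cfsg.Agent.Lib.PGroups.MaxAbelian
import Cfsg.Agent.Lib.PGroups.UniqueInvolution
import Cfsg.Agent.Lib.Fusion.Thompson
import Cfsg.Agent.Lib.Involutions.Basic

/-!
# An involution with at most three involutions in its centraliser

In a simple group such an involution is 2-central and all involutions are conjugate, granted
that no involution is isolated.
-/

set_option autoImplicit false

namespace Cfsg.Agent.Lib.InvCentThree

open Subgroup
open Cfsg.Agent.Lib.PGroups Cfsg.Agent.Lib.Involutions.Basic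

section TwoGroup

variable {P : Type*} [Group P] [Finite P]

theorem exists_invol_central [Nontrivial P] (hP : IsPGroup 2 P) :
    ∃ z : P, z ∈ center P ∧ orderOf z = 2 := by
  haveI := hP.center_nontrivial
  exact exists_orderOf_eq_prime_of_ne_bot (hP.to_subgroup _)
    ((Subgroup.nontrivial_iff_ne_bot _).mp inferInstance)

theorem mem_four {W : Subgroup P} (hW : Nat.card W = 4) {z w : P} (hz : z ∈ W) (hw : w ∈ W)
    (hz1 : z ≠ 1) (hw1 : w ≠ 1) (hzw : w ≠ z) (hsq : ∀ v ∈ W, v * v = 1) {v : P} (hv : v ∈ W) :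
    v = 1 ∨ v = z ∨ v = w ∨ v = z * w := by
  classical
  by_contra hcon
  push Not at hcon
  obtain ⟨h1, h2, h3, h4⟩ := hcon
  have hzw1 : z * w ≠ 1 := fun h => hzw (mul_left_cancel (h.trans (hsq z hz).symm))
  have hs : ({1, z, w, z * w, v} : Finset P).card = 5 := by
    repeat rw [Finset.card_insert_of_notMem]
    · simp
    all_goals simp [hz1.symm, hw1.symm, hzw1.symm, Ne.symm h1, Ne.symm h2, Ne.symm h3, Ne.symm h4,
      hzw.symm, hz1, hw1]
  have hsub : (({1, z, w, z * w, v} : Finset P) : Set P) ⊆ (W : Set P) := by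
    simp [Set.insert_subset_iff, one_mem, hz, hw, mul_mem hz hw, hv]
  have := Set.ncard_le_ncard hsub (Set.toFinite _)
  rw [Set.ncard_coe_finset, hs, ← Nat.card_coe_set_eq] at this
  have h5 : Nat.card (W : Set P) = 4 := hW
  omega

/-- Either a normal four-subgroup, or a subgroup of index two whose involutions are all
central. -/
theorem four_or_index_two (hP : IsPGroup 2 P) {x : P} (hx : orderOf x = 2)
    (hxc : x ∉ center P) :
    (∃ W : Subgroup P, W.Normal ∧ Nat.card W = 4 ∧ ∀ v ∈ W, v * v = 1) ∨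
      ∃ M : Subgroup P, M.index = 2 ∧ ∀ e : P, orderOf e = 2 → e ∈ M → e ∈ center P := by
  classical
  by_cases hfour : ∃ W : Subgroup P, W.Normal ∧ Nat.card W = 4 ∧ ∀ v ∈ W, v * v = 1
  · exact Or.inl hfour
  refine Or.inr ?_
  haveI : Fact (Nat.Prime 2) := ⟨Nat.prime_two⟩
  haveI : Nontrivial P := ⟨⟨x, 1, invol_ne_one hx⟩⟩
  obtain ⟨z, hzc, hz⟩ := exists_invol_central hP
  have hcard : 2 ^ 2 ≤ Nat.card (⊤ : Subgroup P) := by
    obtain ⟨n, hn⟩ := IsPGroup.iff_card.mp hP
    rw [card_top, hn]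
    refine Nat.pow_le_pow_right two_pos ?_
    by_contra hlt
    refine hxc ?_
    have hcyc : IsCyclic P := by
      rcases Nat.lt_or_ge n 1 with h0 | h1
      · exact isCyclic_of_card_dvd_prime (p := 2) (by rw [hn, show n = 0 by omega]; simp)
      · exact isCyclic_of_card_dvd_prime (p := 2) (by rw [hn, show n = 1 by omega]; simp)
    rw [mem_center_iff]
    exact fun g => @IsCyclic.commGroup P _ hcyc |>.mul_comm g x
  obtain ⟨N, hNn, -, hN⟩ := exists_normal_le_card hP (⊤ : Subgroup P) hcard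
  haveI := hNn
  obtain ⟨c, hcN, hc2⟩ : ∃ c ∈ N, c * c ≠ 1 := by
    by_contra hcon
    push Not at hcon
    exact hfour ⟨N, hNn, by rw [hN]; norm_num, hcon⟩
  have hc4 : orderOf c = 4 := by
    have h1 : orderOf c ∣ 4 := by
      have := orderOf_dvd_natCard (⟨c, hcN⟩ : N)
      rw [hN, Subgroup.orderOf_mk] at this
      simpa using this
    have h2 : orderOf c ∣ 4 ∧ orderOf c ≤ 4 := ⟨h1, Nat.le_of_dvd (by norm_num) h1⟩
    have h3 : orderOf c ≠ 1 := fun h => hc2 (by rw [orderOf_eq_one_iff.mp h, mul_one])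
    have h4 : orderOf c ≠ 2 := fun h => hc2 (invol_mul_self h)
    have h5 : 0 < orderOf c := orderOf_pos c
    rcases h2 with ⟨⟨k, hk⟩, h6⟩
    interval_cases orderOf c <;> omega
  have hNc : N = zpowers c := (eq_of_le_of_card_ge (zpowers_le.mpr hcN)
    (by rw [Nat.card_zpowers, hc4, hN]; norm_num)).symm
  have hsmall : ∀ k : ℕ, k < 4 → c ^ k = 1 → k = 0 := fun k hk h => by
    have := orderOf_dvd_of_pow_eq_one h
    rw [hc4] at this
    omega
  have hc44 : c * c * (c * c) = 1 := by
    rw [← sq, ← sq, ← pow_mul, show 2 * 2 = orderOf c by omega, pow_orderOf_eq_one]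
  -- involutions commuting with `c` are central
  have key : ∀ e : P, orderOf e = 2 → e * c = c * e → e ∈ center P := by
    intro e he hec
    obtain ⟨A, hNA, hAn, hAc, hmax⟩ := exists_maximal_normal_abelian N
      (by rw [hNc]; infer_instance)
    haveI := hAn
    have hCA := centralizer_eq_self_of_maximal hP hAc hmax
    have hcyc : IsCyclic A := by
      by_contra hnc
      have h4 := sq_le_card_omegaOne hAc (hP.to_subgroup A) hnc
      haveI := omegaOne_normal (p := 2) (K := A)
      obtain ⟨W, hWn, hWle, hW⟩ := exists_normal_le_card hP (Cfsg.omegaOne 2 A) h4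
      exact hfour ⟨W, hWn, by rw [hW]; norm_num, fun v hv => by
        rw [← sq]; exact ((mem_omegaOne_iff_of_comm hAc).mp (hWle hv)).2⟩
    obtain ⟨⟨a, haA⟩, ha⟩ := IsCyclic.exists_generator (α := A)
    have hgen : ∀ b ∈ A, ∃ i : ℤ, a ^ i = b := fun b hb => by
      obtain ⟨i, hi⟩ := mem_zpowers_iff.mp (ha ⟨b, hb⟩)
      exact ⟨i, congrArg Subtype.val hi⟩
    haveI := Fintype.ofFinite A
    have huniq : ∀ b ∈ A, b * b = 1 → b = 1 ∨ b = c * c := by
      intro b hb hbb
      have h2 := IsCyclic.card_pow_eq_one_le (α := A) (n := 2) two_pos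
      by_contra hcon
      push Not at hcon
      have hsub : ({1, (⟨b, hb⟩ : A), ⟨c, hNA hcN⟩ * ⟨c, hNA hcN⟩} : Finset A) ⊆
          Finset.univ.filter (fun v : A => v ^ 2 = 1) := by
        have hc22 := hc44
        intro v hv
        simp only [Finset.mem_insert, Finset.mem_singleton] at hv
        rw [Finset.mem_filter]
        refine ⟨Finset.mem_univ _, Subtype.ext ?_⟩
        rcases hv with rfl | rfl | rfl
        · simp
        · simpa [sq] using hbb
        · simpa [sq] using hc22
      have := (Finset.card_le_card hsub).trans h2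
      rw [Finset.card_insert_of_notMem, Finset.card_insert_of_notMem, Finset.card_singleton] at this
      · omega
      · simp only [Finset.mem_singleton, Subtype.ext_iff, coe_mul]; exact hcon.2
      · simp only [Finset.mem_insert, Finset.mem_singleton, Subtype.ext_iff, coe_mul, coe_one]
        rintro (h | h)
        · exact hcon.1 h.symm
        · exact hc2 h.symm
    have hee : e * e = 1 := invol_mul_self he
    have hcc : ∀ g : P, g * (c * c) * g⁻¹ = c * c := by
      intro g
      have hm : g * (c * c) * g⁻¹ ∈ A := hAn.conj_mem _ (mul_mem (hNA hcN) (hNA hcN)) g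
      rcases huniq _ hm (by
          rw [show g * (c * c) * g⁻¹ * (g * (c * c) * g⁻¹) = g * (c * c * (c * c)) * g⁻¹ by group,
            hc44]
          group) with h | h
      · exact absurd (by simpa using h) hc2
      · exact h
    by_cases heA : e ∈ A
    · rcases huniq e heA hee with h | h
      · exact absurd h (invol_ne_one he)
      · rw [mem_center_iff]
        intro g
        rw [h]
        exact mul_inv_eq_iff_eq_mul.mp (hcc g)
    exfalso
    -- conjugation on `A` is given by exponents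
    have hexp : ∀ g : P, ∃ i : ℤ, ∀ b ∈ A, g * b * g⁻¹ = b ^ i := by
      intro g
      obtain ⟨i, hi⟩ := hgen _ (hAn.conj_mem a haA g)
      refine ⟨i, fun b hb => ?_⟩
      obtain ⟨j, rfl⟩ := hgen b hb
      rw [← conj_zpow, ← hi, ← zpow_mul, ← zpow_mul, mul_comm]
    have hcoset : ∀ g : P, g * e * g⁻¹ = e ∨ g * e * g⁻¹ = c * c * e := by
      intro g
      obtain ⟨i, hi⟩ := hexp g⁻¹
      obtain ⟨j, hj⟩ := hexp e
      set f := g * e * g⁻¹ with hf
      have hcomm : ∀ b ∈ A, f * b * f⁻¹ = e * b * e⁻¹ := by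
        intro b hb
        have hb' : g⁻¹ * b * g⁻¹⁻¹ ∈ A := hAn.conj_mem b hb g⁻¹
        rw [show f * b * f⁻¹ = g * (e * (g⁻¹ * b * g⁻¹⁻¹) * e⁻¹) * g⁻¹ by rw [hf]; group,
          hj _ hb', hj b hb, ← conj_zpow]
        group
      have hα : f * e⁻¹ ∈ A := by
        rw [← hCA, mem_centralizer_iff]
        intro b hb
        have hb' : e⁻¹ * b * e⁻¹⁻¹ ∈ A := hAn.conj_mem b hb e⁻¹
        have h1 := hcomm _ hb'
        have h2 : e * (e⁻¹ * b * e⁻¹⁻¹) * e⁻¹ = b := by group
        rw [h2] at h1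
        calc b * (f * e⁻¹) = f * (e⁻¹ * b * e⁻¹⁻¹) * f⁻¹ * (f * e⁻¹) := by rw [h1]
          _ = f * e⁻¹ * b := by group
      have hff : f * f = 1 := by
        rw [hf, show g * e * g⁻¹ * (g * e * g⁻¹) = g * (e * e) * g⁻¹ by group, hee]; group
      have hinv : e * (f * e⁻¹) * e⁻¹ = (f * e⁻¹)⁻¹ := by
        rw [inv_eq_of_mul_eq_one_right hee, mul_inv_rev, inv_eq_of_mul_eq_one_right hee,
          inv_eq_of_mul_eq_one_right hff, mul_assoc, mul_assoc, hee, mul_one]
      obtain ⟨n, hn⟩ := hP (f * e⁻¹)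
      have hno : ∀ m : ℕ, ∀ α ∈ A, e * α * e⁻¹ = α⁻¹ → α ^ 2 ^ m = 1 → α * α = 1 := by
        intro m
        induction m with
        | zero => intro α _ _ h; rw [pow_zero, pow_one] at h; rw [h, mul_one]
        | succ m ih =>
          intro α hαA hαe h
          rw [pow_succ', pow_mul, sq] at h
          have h2 := ih (α * α) (mul_mem hαA hαA) (by
            rw [show e * (α * α) * e⁻¹ = e * α * e⁻¹ * (e * α * e⁻¹) by group, hαe]; group) h
          rcases huniq _ (mul_mem hαA hαA) h2 with h3 | h3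
          · exact h3
          · exfalso
            have hαc : α * c⁻¹ * (α * c⁻¹) = 1 := by
              have hcm : α * c⁻¹ = c⁻¹ * α := by
                have := hAc
                exact setLike_mul_comm hαA (inv_mem (hNA hcN))
              calc α * c⁻¹ * (α * c⁻¹) = α * (c⁻¹ * α) * c⁻¹ := by group
                _ = α * (α * c⁻¹) * c⁻¹ := by rw [hcm]
                _ = α * α * (c⁻¹ * c⁻¹) := by group
                _ = 1 := by rw [h3]; group
            have hec' : e * c⁻¹ * e⁻¹ = c⁻¹ := by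
              rw [show e * c⁻¹ * e⁻¹ = (e * c * e⁻¹)⁻¹ by group, hec]; group
            have hmem := mul_mem hαA (inv_mem (hNA hcN))
            have h4 : e * (α * c⁻¹) * e⁻¹ = α * c⁻¹ := by
              rcases huniq _ hmem hαc with h5 | h5 <;> rw [h5]
              · group
              · exact hcc e
            rw [show e * (α * c⁻¹) * e⁻¹ = e * α * e⁻¹ * (e * c⁻¹ * e⁻¹) by group, hαe, hec',
              mul_left_inj] at h4
            have h6 : α * α = 1 := by nth_rw 1 [← h4]; group
            exact hc2 (h3.symm.trans h6)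
      rcases huniq _ hα (hno n _ hα hinv hn) with h | h
      · exact Or.inl (mul_inv_eq_one.mp h)
      · exact Or.inr (mul_inv_eq_iff_eq_mul.mp h)
    -- so `{1, c * c, e, c * c * e}` is a normal four-subgroup
    have hz2 : c * c * (c * c) = 1 := hc44
    have hzee : c * c * e = e * (c * c) := (mul_inv_eq_iff_eq_mul.mp (hcc e)).symm
    refine hfour ⟨
      { carrier := {1, c * c, e, c * c * e}
        one_mem' := by simp
        mul_mem' := ?_
        inv_mem' := ?_ }, ⟨?_⟩, ?_, ?_⟩
    · intro u v hu hv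
      simp only [Set.mem_insert_iff, Set.mem_singleton_iff] at hu hv ⊢
      rcases hu with rfl | rfl | rfl | rfl <;> rcases hv with rfl | rfl | rfl | rfl <;>
        (try simp only [one_mul, mul_one, hz2, hee, true_or, or_true])
      · right; right; left; rw [← mul_assoc, hz2, one_mul]
      · right; right; right; exact hzee.symm
      · right; left; rw [hzee, ← mul_assoc, hee, one_mul]
      · right; right; left; rw [mul_assoc, ← hzee, ← mul_assoc, hz2, one_mul]
      · right; left; rw [mul_assoc, hee, mul_one]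
      · left; rw [hzee, mul_assoc, ← mul_assoc (c * c) e, hzee, mul_assoc e (c * c) (c * c), hz2,
          mul_one, hee]
    · intro u hu
      simp only [Set.mem_insert_iff, Set.mem_singleton_iff] at hu ⊢
      rcases hu with rfl | rfl | rfl | rfl
      · simp
      · right; left; exact inv_eq_of_mul_eq_one_right hz2
      · right; right; left; exact inv_eq_of_mul_eq_one_right hee
      · right; right; right
        rw [mul_inv_rev, inv_eq_of_mul_eq_one_right hz2, inv_eq_of_mul_eq_one_right hee]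
        exact hzee.symm
    · intro v hv g
      simp only [Subgroup.mem_mk, Submonoid.mem_mk, Subsemigroup.mem_mk, Set.mem_insert_iff,
        Set.mem_singleton_iff] at hv ⊢
      rcases hv with rfl | rfl | rfl | rfl
      · left; group
      · right; left; exact hcc g
      · rcases hcoset g with h | h
        · right; right; left; exact h
        · right; right; right; exact h
      · rw [show g * (c * c * e) * g⁻¹ = g * (c * c) * g⁻¹ * (g * e * g⁻¹) by group, hcc]
        rcases hcoset g with h | h <;> rw [h]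
        · right; right; right; rfl
        · right; right; left; rw [← mul_assoc, hz2, one_mul]
    · show Nat.card ({1, c * c, e, c * c * e} : Set P) = 4
      rw [show ({1, c * c, e, c * c * e} : Set P) = (({1, c * c, e, c * c * e} : Finset P) : Set P) by
        simp, Nat.card_coe_set_eq, Set.ncard_coe_finset]
      have hecc : e ≠ c * c := fun h => heA (h ▸ mul_mem (hNA hcN) (hNA hcN))
      have hne4 : c * c * e ≠ 1 := fun h => hecc (inv_eq_of_mul_eq_one_left h ▸ by
        rw [inv_eq_of_mul_eq_one_right hee])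
      repeat rw [Finset.card_insert_of_notMem]
      · simp
      all_goals simp [hc2, Ne.symm hc2, invol_ne_one he, Ne.symm (invol_ne_one he), hecc, hecc.symm,
        hne4.symm]
    · intro v hv
      simp only [Subgroup.mem_mk, Submonoid.mem_mk, Subsemigroup.mem_mk, Set.mem_insert_iff,
        Set.mem_singleton_iff] at hv
      rcases hv with rfl | rfl | rfl | rfl
      · simp
      · exact hz2
      · exact hee
      · rw [mul_assoc, ← mul_assoc e, ← hzee, mul_assoc (c * c) e e, hee, mul_one, hz2]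
  -- the centraliser of `c`
  refine ⟨centralizer ({c} : Set P), ?_, fun e he hm => key e he ?_⟩
  · have hconj : ∀ g : P, g * c * g⁻¹ = c ∨ g * c * g⁻¹ = c⁻¹ := by
      intro g
      have hm : g * c * g⁻¹ ∈ zpowers c := hNc ▸ hNn.conj_mem c hcN g
      obtain ⟨k, hk4, hk⟩ : ∃ k, k < 4 ∧ c ^ k = g * c * g⁻¹ := by
        obtain ⟨k, hk⟩ := mem_powers_iff_mem_zpowers.mpr hm
        exact ⟨k % 4, Nat.mod_lt _ (by norm_num), by rw [← hc4, pow_mod_orderOf]; exact hk⟩
      have ho : orderOf (c ^ k) = 4 := by rw [hk, orderOf_conj_eq, hc4]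
      interval_cases k
      · simp at ho
      · exact Or.inl (hk ▸ pow_one c)
      · rw [orderOf_pow, hc4] at ho; norm_num at ho
      · refine Or.inr (hk.symm.trans (eq_inv_of_mul_eq_one_left ?_))
        rw [← pow_succ, show 3 + 1 = orderOf c by omega, pow_orderOf_eq_one]
    rw [index_eq_two_iff_exists_notMem_and']
    have hxM : x ∉ centralizer ({c} : Set P) := fun h =>
      hxc (key x hx (mem_centralizer_singleton_iff.mp h))
    have hxci : x * c * x⁻¹ = c⁻¹ := (hconj x).resolve_left fun h =>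
      hxM (mem_centralizer_singleton_iff.mpr (mul_inv_eq_iff_eq_mul.mp h))
    refine ⟨x, hxM, fun b => ?_⟩
    rcases hconj b with h | h
    · exact Or.inr (mem_centralizer_singleton_iff.mpr (mul_inv_eq_iff_eq_mul.mp h))
    · refine Or.inl (mem_centralizer_singleton_iff.mpr (mul_inv_eq_iff_eq_mul.mp ?_))
      rw [show x * b * c * (x * b)⁻¹ = x * (b * c * b⁻¹) * x⁻¹ by group, h,
        show x * c⁻¹ * x⁻¹ = (x * c * x⁻¹)⁻¹ by group, hxci, inv_inv]
  · exact mem_centralizer_singleton_iff.mp hm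

end TwoGroup

/-- No involution is isolated. -/
def NoIsolated (G : Type*) [Group G] : Prop :=
  ∀ (P : Sylow 2 G) (u : G), orderOf u = 2 → u ∈ (P : Subgroup G) →
    ∃ g : G, g * u * g⁻¹ ∈ (P : Subgroup G) ∧ g * u * g⁻¹ ≠ u

variable {G : Type*} [Group G] [Finite G]

theorem three {x : G} (hx : orderOf x = 2)
    (h3 : Nat.card {u : ↥(centralizer ({x} : Set G)) // orderOf u = 2} ≤ 3) {y : G}
    (hy : IsConj x y) {a b : G} (ha : orderOf a = 2) (hb : orderOf b = 2) (hya : y * a = a * y)
    (hyb : y * b = b * y) (hay : a ≠ y) (hby : b ≠ y) : b = a ∨ b = y * a := by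
  classical
  obtain ⟨g, rfl⟩ := isConj_iff.mp hy
  have conv : ∀ c : G, g * x * g⁻¹ * c = c * (g * x * g⁻¹) →
      g⁻¹ * c * g ∈ centralizer ({x} : Set G) := fun c hc => mem_centralizer_singleton_iff.mpr (by
    calc g⁻¹ * c * g * x = g⁻¹ * (c * (g * x * g⁻¹)) * g := by group
      _ = g⁻¹ * (g * x * g⁻¹ * c) * g := by rw [hc]
      _ = x * (g⁻¹ * c * g) := by group)
  have hor : ∀ c : G, orderOf c = 2 → orderOf (g⁻¹ * c * g) = 2 := fun c hc => by
    simpa using (orderOf_conj_eq g⁻¹ c).trans hc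
  set y := g * x * g⁻¹ with hydef
  have hyo : orderOf y = 2 := (orderOf_conj_eq g x).trans hx
  have hyy := invol_mul_self hyo
  have hyao : orderOf (y * a) = 2 := invol_iff.mpr ⟨by
    rw [show y * a * (y * a) = y * (a * y) * a by group, ← hya,
      show y * (y * a) * a = y * y * (a * a) by group, hyy, invol_mul_self ha, one_mul],
    fun h => hay (mul_left_cancel (hyy.trans h.symm)).symm⟩
  by_contra hcon
  push Not at hcon
  let mk : ∀ c : G, orderOf c = 2 → y * c = c * y →
      {u : ↥(centralizer ({x} : Set G)) // orderOf u = 2} := fun c hc hcy =>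
    ⟨⟨g⁻¹ * c * g, conv c hcy⟩, by rw [Subgroup.orderOf_mk]; exact hor c hc⟩
  have hyay : y * (y * a) = y * a * y := by rw [mul_assoc y a y, ← hya]
  have h1 : y * a ≠ y := fun h => invol_ne_one ha (mul_eq_left.mp h)
  have h2 : y * a ≠ a := fun h => invol_ne_one hyo (mul_eq_right.mp h)
  let F : Fin 4 → G := ![y, a, b, y * a]
  have hF : ∀ i, orderOf (F i) = 2 ∧ y * F i = F i * y := by
    intro i
    fin_cases i
    exacts [⟨hyo, rfl⟩, ⟨ha, hya⟩, ⟨hb, hyb⟩, ⟨hyao, hyay⟩]
  have hFi : Function.Injective F := by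
    intro i j hij
    fin_cases i <;> fin_cases j <;> simp [F, hay, hby, hcon.1, hcon.2, h1, h2, Ne.symm hay, Ne.symm hby,
      Ne.symm hcon.1, Ne.symm hcon.2, Ne.symm h1, Ne.symm h2] at hij ⊢
  let f : Fin 4 → {u : ↥(centralizer ({x} : Set G)) // orderOf u = 2} := fun i =>
    mk (F i) (hF i).1 (hF i).2
  have hf : Function.Injective f := fun i j hij =>
    hFi (mul_left_cancel (mul_right_cancel (congrArg (fun u : {u : ↥(centralizer ({x} : Set G)) //
      orderOf u = 2} => ((u.1 : ↥(centralizer ({x} : Set G))) : G)) hij :)))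
  have := Nat.card_le_card_of_injective f hf
  rw [Nat.card_fin] at this
  omega

theorem relIndex_map (S : Subgroup G) (M : Subgroup S) :
    (M.map S.subtype).relIndex S = M.index := by
  rw [relIndex, subgroupOf, comap_map_eq_self_of_injective S.subtype_injective]

/-- An element of a subgroup of the centraliser of `z` can be moved into a Sylow subgroup
centralising `z`, fixing `z`. -/
theorem exists_move (S : Sylow 2 G) {z : G} (hzS : (S : Subgroup G) ≤ centralizer ({z} : Set G))
    {q : G} (hq : q * z = z * q) (hq2 : ∃ n : ℕ, q ^ 2 ^ n = 1) :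
    ∃ c : G, c * z * c⁻¹ = z ∧ c * q * c⁻¹ ∈ (S : Subgroup G) := by
  set C := centralizer ({z} : Set G) with hC
  have hqC : q ∈ C := mem_centralizer_singleton_iff.mpr hq
  obtain ⟨n, hn⟩ := hq2
  have hp : IsPGroup 2 (zpowers (⟨q, hqC⟩ : C)) := by
    obtain ⟨k, -, hk⟩ := (Nat.dvd_prime_pow Nat.prime_two).mp
      (orderOf_dvd_of_pow_eq_one (x := (⟨q, hqC⟩ : C)) (n := 2 ^ n) (Subtype.ext (by simpa using hn)))
    exact IsPGroup.of_card (n := k) (by rw [Nat.card_zpowers, hk])
  obtain ⟨R, hR⟩ := hp.exists_le_sylow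
  haveI : Fact (Nat.Prime 2) := ⟨Nat.prime_two⟩
  obtain ⟨c, hc⟩ := MulAction.exists_smul_eq C R (S.subtype hzS)
  refine ⟨c, mul_inv_eq_iff_eq_mul.mpr (mem_centralizer_singleton_iff.mp c.2), ?_⟩
  have h1 : c * ⟨q, hqC⟩ * c⁻¹ ∈ ((S.subtype hzS : Sylow 2 C) : Subgroup C) := by
    rw [← hc, Sylow.coe_subgroup_smul]
    simpa using Subgroup.smul_mem_pointwise_smul (a := MulAut.conj c) (⟨q, hqC⟩ : C)
      (R : Subgroup C) (hR (mem_zpowers _))
  exact h1

/-- The centraliser bound forces a conjugate of `x` in the centre of a Sylow subgroup. -/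
theorem exists_central_conj (hno2 : ∀ N : Subgroup G, N.index ≠ 2) (hNI : NoIsolated G) {x : G}
    (hx : orderOf x = 2) (h3 : Nat.card {u : ↥(centralizer ({x} : Set G)) // orderOf u = 2} ≤ 3)
    (S : Sylow 2 G) :
    ∃ y : G, IsConj x y ∧ y ∈ (S : Subgroup G) ∧ ∀ s ∈ (S : Subgroup G), s * y = y * s := by
  classical
  haveI : Fact (Nat.Prime 2) := ⟨Nat.prime_two⟩
  by_contra hcon
  push Not at hcon
  have hoy : ∀ y, IsConj x y → orderOf y = 2 := fun y hy => by
    obtain ⟨g, rfl⟩ := isConj_iff.mp hy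
    rw [orderOf_conj_eq, hx]
  -- some conjugate of `x` lies in `S`
  obtain ⟨x₁, hx₁, hx₁S⟩ : ∃ y, IsConj x y ∧ y ∈ (S : Subgroup G) := by
    have hp : IsPGroup 2 (zpowers x) :=
      IsPGroup.of_card (n := 1) (by rw [Nat.card_zpowers, hx, pow_one])
    obtain ⟨Q, hQ⟩ := hp.exists_le_sylow
    obtain ⟨g, hg⟩ := MulAction.exists_smul_eq G Q S
    refine ⟨g * x * g⁻¹, isConj_iff.mpr ⟨g, rfl⟩, ?_⟩
    rw [← hg, Sylow.coe_subgroup_smul]
    simpa using Subgroup.smul_mem_pointwise_smul (a := MulAut.conj g) x (Q : Subgroup G)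
      (hQ (mem_zpowers x))
  set P := (S : Subgroup G) with hPdef
  have hP : IsPGroup 2 P := S.2
  have hnc : ∀ y : P, IsConj x (y : G) → y ∉ center P := fun y hy hc => by
    obtain ⟨s, hs, hne⟩ := hcon _ hy y.2
    exact hne (congrArg Subtype.val (mem_center_iff.mp hc ⟨s, hs⟩))
  -- no subgroup of index two avoids the class of `x`
  have htr : ∀ M : Subgroup P, M.index = 2 → ∃ y : P, y ∈ M ∧ IsConj x (y : G) := by
    intro M hM
    obtain ⟨g, m, hm, hme⟩ := Fusion.Thompson.exists_conj_mem_maximal S (M.map P.subtype)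
      (map_subtype_le _) (by rw [relIndex_map, hM]) hno2 x hx
    refine ⟨m, hm, isConj_iff.mpr ⟨g, hme.symm⟩⟩
  obtain ⟨W, hWn, hW4, hWsq⟩ | ⟨M, hM, hMc⟩ := four_or_index_two hP (x := (⟨x₁, hx₁S⟩ : P))
    (by rw [Subgroup.orderOf_mk]; exact hoy _ hx₁) (hnc _ hx₁)
  swap
  · obtain ⟨y, hyM, hy⟩ := htr M hM
    exact hnc y hy (hMc y (by rw [← Subgroup.orderOf_coe]; exact hoy _ hy) hyM)
  haveI := hWn
  have hWne : W ≠ ⊥ := fun h => by rw [h, card_bot] at hW4; omega
  obtain ⟨z, hzW, hzc, hz⟩ : ∃ z : P, z ∈ W ∧ z ∈ center P ∧ orderOf z = 2 := by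
    obtain ⟨z, hz, hzo⟩ := exists_orderOf_eq_prime_of_ne_bot (hP.to_subgroup (W ⊓ center P))
      (normal_inf_center_ne_bot hP W hWne)
    exact ⟨z, hz.1, hz.2, hzo⟩
  obtain ⟨w₀, hw₀W, hw₀1, hw₀z⟩ : ∃ w ∈ W, w ≠ 1 ∧ w ≠ z := by
    by_contra hall
    push Not at hall
    have hle : (W : Set P) ⊆ (({1, z} : Finset P) : Set P) := fun v hv => by
      by_cases h1 : v = 1
      · simp [h1]
      · simp [hall v hv h1]
    have := Set.ncard_le_ncard hle (Set.toFinite _)
    rw [Set.ncard_coe_finset, ← Nat.card_coe_set_eq] at this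
    have h5 : Nat.card (W : Set P) = 4 := hW4
    have := Finset.card_insert_le (1 : P) {z}
    simp at this
    omega
  have hcomG : ∀ {a b : P}, a * b = b * a → (a : G) * b = b * a := fun h => congrArg Subtype.val h
  have hinW : ∀ y : P, IsConj x (y : G) → y ∈ centralizer (W : Set P) → y ∈ W := by
    intro y hy hyC
    by_contra hyW
    have hv : ∀ v ∈ W, v ≠ 1 → orderOf ((v : P) : G) = 2 := fun v hv h1 => by
      rw [Subgroup.orderOf_coe]
      exact invol_iff.mpr ⟨hWsq v hv, h1⟩
    rcases three hx h3 hy (hv z hzW (invol_ne_one hz)) (hv w₀ hw₀W hw₀1)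
      (hcomG (mem_centralizer_iff.mp hyC z hzW).symm)
      (hcomG (mem_centralizer_iff.mp hyC w₀ hw₀W).symm)
      (fun h => hyW (Subtype.ext h ▸ hzW)) (fun h => hyW (Subtype.ext h ▸ hw₀W)) with h | h
    · exact hw₀z (Subtype.ext h)
    · refine hyW ?_
      have h' : w₀ = y * z := Subtype.ext h
      rw [show y = w₀ * z⁻¹ by rw [h']; group]
      exact mul_mem hw₀W (inv_mem hzW)
  -- a conjugate of `x` in `W`
  have hwz : ∀ w ∈ W, w ≠ 1 → w ≠ z → ∀ g : P, g * w * g⁻¹ = w ∨ g * w * g⁻¹ = z * w := by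
    intro w hw hw1 hwz g
    rcases mem_four hW4 hzW hw (invol_ne_one hz) hw1 hwz hWsq (hWn.conj_mem w hw g) with h | h | h | h
    · exact absurd (conj_eq_one_iff.mp h) hw1
    · refine absurd ?_ hwz
      have h1 : w = g⁻¹ * z * g := by rw [← h]; group
      rw [h1, mul_assoc, ← mem_center_iff.mp hzc g]
      group
    · exact Or.inl h
    · exact Or.inr h
  have hcentW : ∀ w ∈ W, w ≠ 1 → w ≠ z → ∀ g : P,
      g ∈ centralizer (W : Set P) ↔ g * w * g⁻¹ = w := by
    intro w hw hw1 hwz g
    constructor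
    · intro h
      rw [← mem_centralizer_iff.mp h w hw]; group
    · intro h
      rw [mem_centralizer_iff]
      intro v hv
      have hgz : g * z = z * g := mem_center_iff.mp hzc g
      have hgw : g * w = w * g := mul_inv_eq_iff_eq_mul.mp h
      rcases mem_four hW4 hzW hw (invol_ne_one hz) hw1 hwz hWsq hv with rfl | rfl | rfl | rfl
      · simp
      · exact hgz.symm
      · exact hgw.symm
      · rw [mul_assoc, ← hgw, ← mul_assoc, ← hgz, mul_assoc]
  obtain ⟨w, hwW, hw⟩ : ∃ w ∈ W, IsConj x ((w : P) : G) := by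
    by_cases htop : centralizer (W : Set P) = ⊤
    · exact ⟨⟨x₁, hx₁S⟩, hinW _ hx₁ (htop ▸ mem_top _), hx₁⟩
    · obtain ⟨a, ha⟩ : ∃ a : P, a ∉ centralizer (W : Set P) := by
        by_contra hall
        push Not at hall
        exact htop (eq_top_iff.mpr fun g _ => hall g)
      have hidx : (centralizer (W : Set P)).index = 2 := by
        rw [index_eq_two_iff_exists_notMem_and']
        have hai : a * w₀ * a⁻¹ = z * w₀ := (hwz w₀ hw₀W hw₀1 hw₀z a).resolve_left fun h =>
          ha ((hcentW w₀ hw₀W hw₀1 hw₀z a).mpr h)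
        refine ⟨a, ha, fun b => ?_⟩
        rcases hwz w₀ hw₀W hw₀1 hw₀z b with h | h
        · exact Or.inr ((hcentW w₀ hw₀W hw₀1 hw₀z b).mpr h)
        · refine Or.inl ((hcentW w₀ hw₀W hw₀1 hw₀z _).mpr ?_)
          rw [show a * b * w₀ * (a * b)⁻¹ = a * (b * w₀ * b⁻¹) * a⁻¹ by group, h,
            show a * (z * w₀) * a⁻¹ = a * z * a⁻¹ * (a * w₀ * a⁻¹) by group, hai,
            mem_center_iff.mp hzc a, mul_inv_cancel_right, ← mul_assoc, hWsq z hzW, one_mul]
      obtain ⟨y, hyM, hy⟩ := htr _ hidx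
      exact ⟨y, hinW y hy hyM, hy⟩
  have hw1 : w ≠ 1 := fun h => hnc w hw (h ▸ one_mem _)
  have hwnz : w ≠ z := fun h => hnc w hw (h ▸ hzc)
  have hwG := hoy _ hw
  have hzG : orderOf (z : G) = 2 := by rw [Subgroup.orderOf_coe, hz]
  set M := centralizer (W : Set P) with hMdef
  obtain ⟨a, ha⟩ : ∃ a : P, a * w * a⁻¹ = z * w := by
    obtain ⟨s, hs, hne⟩ := hcon _ hw w.2
    exact ⟨⟨s, hs⟩, (hwz w hwW hw1 hwnz _).resolve_left fun h =>
      hne (congrArg Subtype.val (mul_inv_eq_iff_eq_mul.mp h))⟩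
  have hzwconj : IsConj x ((z * w : P) : G) :=
    hw.trans (isConj_iff.mpr ⟨(a : G), congrArg Subtype.val ha⟩)
  have hinvM : ∀ v : P, orderOf v = 2 → v ∈ M → v ∈ W := by
    intro v hv hvM
    by_contra hvW
    rcases three hx h3 hw hzG (by rw [Subgroup.orderOf_coe]; exact hv)
      (hcomG (mem_center_iff.mp hzc w))
      (hcomG (mem_centralizer_iff.mp hvM w hwW))
      (fun h => hwnz (Subtype.ext h).symm) (fun h => hvW (Subtype.ext h ▸ hwW)) with h | h
    · exact hvW (Subtype.ext h ▸ hzW)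
    · exact hvW ((Subtype.ext h : v = w * z) ▸ mul_mem hwW hzW)
  have hzx : ¬ IsConj x (z : G) := fun h => hnc z h hzc
  -- a conjugate `s` of `z` outside `M`
  obtain ⟨g, hgS, hgne⟩ := hNI S z hzG z.2
  set s : P := ⟨g * z * g⁻¹, hgS⟩ with hsdef
  have hzs : IsConj (z : G) (s : G) := isConj_iff.mpr ⟨g, rfl⟩
  have hs : orderOf s = 2 := by
    rw [← Subgroup.orderOf_coe]
    exact (orderOf_conj_eq g (z : G)).trans hzG
  have hsM : s ∉ M := by
    intro hsM
    rcases mem_four hW4 hzW hwW (invol_ne_one hz) hw1 hwnz hWsq (hinvM s hs hsM) with h | h | h | h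
    · exact invol_ne_one hs h
    · exact hgne (congrArg Subtype.val h)
    · exact hzx (hw.trans (congrArg Subtype.val h ▸ hzs).symm)
    · exact hzx (hzwconj.trans (congrArg Subtype.val h ▸ hzs).symm)
  have hsw : s * w * s⁻¹ = z * w :=
    (hwz w hwW hw1 hwnz s).resolve_left fun h => hsM ((hcentW w hwW hw1 hwnz s).mpr h)
  have hzs' : s * z * s⁻¹ = z := by
    rw [mem_center_iff.mp hzc s, mul_inv_cancel_right]
  have hss := invol_mul_self hs
  have hMidx : M.index = 2 := by
    rw [index_eq_two_iff_exists_notMem_and']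
    refine ⟨s, hsM, fun b => ?_⟩
    rcases hwz w hwW hw1 hwnz b with h | h
    · exact Or.inr ((hcentW w hwW hw1 hwnz b).mpr h)
    · refine Or.inl ((hcentW w hwW hw1 hwnz _).mpr ?_)
      rw [show s * b * w * (s * b)⁻¹ = s * (b * w * b⁻¹) * s⁻¹ by group, h,
        show s * (z * w) * s⁻¹ = s * z * s⁻¹ * (s * w * s⁻¹) by group, hsw, hzs', ← mul_assoc,
        hWsq z hzW, one_mul]
  -- `M = W`
  have hMW : M = W := by
    refine le_antisymm ?_ fun v hv => (hcentW w hwW hw1 hwnz v).mpr (by
      rcases mem_four hW4 hzW hwW (invol_ne_one hz) hw1 hwnz hWsq hv with rfl | rfl | rfl | rfl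
      · group
      · rw [← mem_center_iff.mp hzc w]; group
      · group
      · rw [show z * w * w * (z * w)⁻¹ = z * (w * w) * w⁻¹ * z⁻¹ by group, hWsq w hwW, mul_one,
          inv_eq_of_mul_eq_one_right (hWsq w hwW), inv_eq_of_mul_eq_one_right (hWsq z hzW), mul_assoc,
          mem_center_iff.mp hzc w, ← mul_assoc, hWsq z hzW, one_mul])
    by_contra hle
    let f := QuotientGroup.mk' W
    have hMn : (M.map f).Normal :=
      (inferInstance : (centralizer (W : Set P)).Normal).map f (QuotientGroup.mk'_surjective W)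
    have hne : M.map f ≠ ⊥ := by
      rw [Ne, Subgroup.map_eq_bot_iff, QuotientGroup.ker_mk']
      exact hle
    obtain ⟨Z, hZM, hZc, -, hZ⟩ := exists_central_card_prime (hP.to_quotient W) _ hne
    have hZne : Z ≠ ⊥ := fun h => by rw [h, card_bot] at hZ; omega
    obtain ⟨tq, htZ, ht1⟩ := Z.bot_or_exists_ne_one.resolve_left hZne
    obtain ⟨t, htM, rfl⟩ := hZM htZ
    have htW : t ∉ W := fun h => ht1 ((QuotientGroup.eq_one_iff t).mpr h)
    have htsq : t * t ∈ W := by
      rw [← QuotientGroup.eq_one_iff, QuotientGroup.mk_mul]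
      have := orderOf_dvd_natCard (⟨_, htZ⟩ : Z)
      rw [hZ, Subgroup.orderOf_mk, orderOf_dvd_iff_pow_eq_one, sq] at this
      exact this
    have htv : s * t * s⁻¹ * t⁻¹ ∈ W := by
      rw [← QuotientGroup.eq_one_iff]
      have hc := mem_center_iff.mp (hZc htZ) (f s)
      show f (s * t * s⁻¹ * t⁻¹) = 1
      simp only [map_mul, map_inv, hc]
      group
    have hcW : ∀ v ∈ W, v * t = t * v := fun v hv => mem_centralizer_iff.mp htM v hv
    -- the square of `t` is `z`
    have hfix : s * (t * t) * s⁻¹ = t * t := by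
      set v := s * t * s⁻¹ * t⁻¹ with hv
      rw [show s * (t * t) * s⁻¹ = v * t * (v * t) by rw [hv]; group, mul_assoc, ← mul_assoc t v,
        ← hcW v htv, ← mul_assoc, ← mul_assoc, hWsq v htv, one_mul]
    have htt : t * t = z := by
      rcases mem_four hW4 hzW hwW (invol_ne_one hz) hw1 hwnz hWsq htsq with h | h | h | h
      · exact absurd (hinvM t (invol_iff.mpr ⟨h, fun h1 => htW (h1 ▸ one_mem _)⟩) htM) htW
      · exact h
      · rw [h, hsw, mul_eq_right] at hfix
        exact absurd hfix (invol_ne_one hz)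
      · rw [h, show s * (z * w) * s⁻¹ = s * z * s⁻¹ * (s * w * s⁻¹) by group, hzs', hsw] at hfix
        have h1 := mul_left_cancel hfix
        rw [mul_eq_right] at h1
        exact absurd h1 (invol_ne_one hz)
    -- make it commute with `s`
    obtain ⟨q, hqq, hqs⟩ : ∃ q : P, q * q = z ∧ s * q * s⁻¹ = q := by
      set v := s * t * s⁻¹ * t⁻¹ with hv
      have hst : s * t * s⁻¹ = v * t := by rw [hv]; group
      have h2 : s * v * s⁻¹ * v = 1 := by
        apply mul_right_cancel (b := t)
        rw [one_mul]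
        calc s * v * s⁻¹ * v * t = s * v * s⁻¹ * (s * t * s⁻¹) := by rw [hst]; group
          _ = s * (v * t) * s⁻¹ := by group
          _ = s * (s * t * s⁻¹) * s⁻¹ := by rw [hst]
          _ = s * s * t * (s * s)⁻¹ := by group
          _ = t := by rw [hss]; group
      rcases mem_four hW4 hzW hwW (invol_ne_one hz) hw1 hwnz hWsq htv with h | h | h | h
      · exact ⟨t, htt, by rw [hst, h, one_mul]⟩
      · refine ⟨t * w, ?_, ?_⟩
        · rw [mul_assoc, ← mul_assoc w t w, hcW w hwW, mul_assoc t w w, hWsq w hwW, mul_one, htt]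
        · rw [show s * (t * w) * s⁻¹ = s * t * s⁻¹ * (s * w * s⁻¹) by group, hst, hsw, h,
            hcW z hzW, mul_assoc t z, ← mul_assoc z z w, hWsq z hzW, one_mul]
      · rw [h, hsw, mul_assoc, hWsq w hwW, mul_one] at h2
        exact absurd h2 (invol_ne_one hz)
      · rw [h, show s * (z * w) * s⁻¹ = s * z * s⁻¹ * (s * w * s⁻¹) by group, hzs', hsw,
          ← mul_assoc z z w, hWsq z hzW, one_mul, ← mul_assoc, mem_center_iff.mp hzc w, mul_assoc,
          hWsq w hwW, mul_one] at h2
        exact absurd h2 (invol_ne_one hz)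
    -- move `s` to `z`
    have hSz : (S : Subgroup G) ≤ centralizer ({(z : G)} : Set G) := fun r hr =>
      mem_centralizer_singleton_iff.mpr
        (congrArg Subtype.val (mem_center_iff.mp hzc (⟨r, hr⟩ : P)))
    have hqG : ∃ n : ℕ, (g⁻¹ * (q : G) * g) ^ 2 ^ n = 1 := by
      obtain ⟨n, hn⟩ := hP q
      refine ⟨n, ?_⟩
      rw [show g⁻¹ * (q : G) * g = g⁻¹ * q * g⁻¹⁻¹ by rw [inv_inv], conj_pow,
        ← Subgroup.coe_pow, hn]
      simp
    have hqz : g⁻¹ * (q : G) * g * z = z * (g⁻¹ * (q : G) * g) := by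
      have h1 : (s : G) * q = q * s := congrArg Subtype.val (mul_inv_eq_iff_eq_mul.mp hqs)
      simp only [hsdef] at h1
      calc g⁻¹ * (q : G) * g * z = g⁻¹ * ((q : G) * (g * z * g⁻¹)) * g := by group
        _ = g⁻¹ * (g * z * g⁻¹ * q) * g := by rw [h1]
        _ = z * (g⁻¹ * (q : G) * g) := by group
    obtain ⟨c, hc, hcS⟩ := exists_move S hSz hqz hqG
    set r : P := ⟨c * (g⁻¹ * (q : G) * g) * c⁻¹, hcS⟩ with hr
    have hrr : ((r * r : P) : G) = c * g⁻¹ * z * (c * g⁻¹)⁻¹ := by
      rw [← hqq, hr]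
      simp only [Subgroup.coe_mul]
      group
    have hro : orderOf (r * r) = 2 := by
      rw [← Subgroup.orderOf_coe, hrr, orderOf_conj_eq, hzG]
    have hrz : IsConj (z : G) ((r * r : P) : G) := isConj_iff.mpr ⟨c * g⁻¹, hrr.symm⟩
    rcases mem_four hW4 hzW hwW (invol_ne_one hz) hw1 hwnz hWsq
      (hinvM _ hro (mul_self_mem_of_index_two hMidx r)) with h | h | h | h
    · exact invol_ne_one hro h
    · refine hgne ?_
      have h1 : c * g⁻¹ * z * (c * g⁻¹)⁻¹ = (z : G) := hrr ▸ congrArg Subtype.val h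
      have h2 : g⁻¹ * z * g = (z : G) := by
        calc g⁻¹ * (z : G) * g = c⁻¹ * (c * g⁻¹ * z * (c * g⁻¹)⁻¹) * c := by group
          _ = c⁻¹ * (c * z * c⁻¹) * c := by rw [h1, hc]
          _ = z := by group
      show g * z * g⁻¹ = z
      conv_lhs => rw [← h2]
      group
    · exact hzx (hw.trans (congrArg Subtype.val h ▸ hrz).symm)
    · exact hzx (hzwconj.trans (congrArg Subtype.val h ▸ hrz).symm)
  -- the four-group `⟨z, s⟩`
  have hP8 : Nat.card P = 8 := by
    rw [← index_mul_card M, hMidx, hMW, hW4]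
  set D := closure ({z, s} : Set P) with hD
  have hsz : s * z = z * s := mem_center_iff.mp hzc s
  have hmem : ∀ v ∈ D, v = 1 ∨ v = z ∨ v = s ∨ v = z * s := by
    intro v hv
    induction hv using closure_induction with
    | mem v hv => rcases hv with h | h <;> simp [show v = _ from h]
    | one => simp
    | mul u v _ _ hu hv =>
      have hzss : z * s * s = z := by rw [mul_assoc, hss, mul_one]
      have hzzs : z * (z * s) = s := by rw [← mul_assoc, hWsq z hzW, one_mul]
      have hszs : s * (z * s) = z := by rw [← mul_assoc, hsz, hzss]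
      have hzsz : z * s * z = s := by rw [mul_assoc, hsz, hzzs]
      have hzszs : z * s * (z * s) = 1 := by rw [← mul_assoc, hzsz, hss]
      rcases hu with hu | hu | hu | hu <;> rcases hv with hv | hv | hv | hv <;>
        simp [hu, hv, hWsq z hzW, hss, hsz, hzss, hzzs, hszs, hzsz, hzszs]
    | inv u _ hu =>
      rcases hu with hu | hu | hu | hu
      · simp [hu]
      · simp [hu, inv_eq_of_mul_eq_one_right (hWsq z hzW)]
      · simp [hu, inv_eq_of_mul_eq_one_right hss]
      · simp [hu, inv_eq_of_mul_eq_one_right (hWsq z hzW), inv_eq_of_mul_eq_one_right hss, hsz]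
  have hDidx : D.index = 2 := by
    have h1 := index_mul_card D
    rw [hP8] at h1
    have hsz1 : s ≠ z := fun h => hgne (congrArg Subtype.val h)
    have h4 : Nat.card D = 4 := by
      have hd : (D : Set P) = (({1, z, s, z * s} : Finset P) : Set P) := by
        ext v
        simp only [Finset.coe_insert, Finset.coe_singleton, Set.mem_insert_iff,
          Set.mem_singleton_iff, SetLike.mem_coe]
        refine ⟨hmem v, ?_⟩
        have hz' : z ∈ D := subset_closure (by simp)
        have hs' : s ∈ D := subset_closure (by simp)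
        rintro (rfl | rfl | rfl | rfl)
        exacts [one_mem _, hz', hs', mul_mem hz' hs']
      show Nat.card (D : Set P) = 4
      rw [hd, Nat.card_coe_set_eq, Set.ncard_coe_finset]
      have hzs1 : z * s ≠ 1 := fun h => hsz1 (mul_left_cancel (h.trans (hWsq z hzW).symm))
      repeat rw [Finset.card_insert_of_notMem]
      · simp
      all_goals simp [invol_ne_one hz, (invol_ne_one hz).symm, invol_ne_one hs,
        (invol_ne_one hs).symm, hsz1, hsz1.symm, hzs1.symm]
    rw [h4] at h1
    omega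
  obtain ⟨y, hyD, hy⟩ := htr D hDidx
  rcases hmem y hyD with rfl | rfl | rfl | rfl
  · exact invol_ne_one (hoy _ hy) rfl
  · exact hzx hy
  · exact hzx (hy.trans hzs.symm)
  · refine hzx (hy.trans (IsConj.trans ?_ hzs.symm))
    refine isConj_iff.mpr ⟨(w : G), congrArg Subtype.val (show w * (z * s) * w⁻¹ = s from ?_)⟩
    have hc : w * z = z * w := mem_center_iff.mp hzc w
    have hsw' : w * s * w⁻¹ = z * s := by
      have h1 : s * w = z * w * s := by rw [← hsw]; group
      rw [inv_eq_of_mul_eq_one_right (hWsq w hwW), mul_assoc, h1, ← mul_assoc, ← mul_assoc, hc,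
        mul_assoc z w w, hWsq w hwW, mul_one]
    rw [show w * (z * s) * w⁻¹ = w * z * w⁻¹ * (w * s * w⁻¹) by group, hc, mul_inv_cancel_right,
      hsw', ← mul_assoc, hWsq z hzW, one_mul]

/-- The conclusion. -/
theorem two_central_one_class (hno2 : ∀ N : Subgroup G, N.index ≠ 2) (hNI : NoIsolated G) {x : G}
    (hx : orderOf x = 2) (h3 : Nat.card {u : ↥(centralizer ({x} : Set G)) // orderOf u = 2} ≤ 3) :
    (∃ S : Sylow 2 G, (S : Subgroup G) ≤ centralizer ({x} : Set G)) ∧
      ∀ u v : G, orderOf u = 2 → orderOf v = 2 → IsConj u v := by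
  classical
  haveI : Fact (Nat.Prime 2) := ⟨Nat.prime_two⟩
  obtain ⟨S₀⟩ : Nonempty (Sylow 2 G) := inferInstance
  obtain ⟨y, hy, hyS, hyc⟩ := exists_central_conj hno2 hNI hx h3 S₀
  obtain ⟨g, hg⟩ := isConj_iff.mp hy
  have hyo : orderOf y = 2 := by rw [← hg, orderOf_conj_eq, hx]
  have hclass : ∀ u : G, orderOf u = 2 → IsConj y u := by
    intro u hu
    have hp : IsPGroup 2 (zpowers u) :=
      IsPGroup.of_card (n := 1) (by rw [Nat.card_zpowers, hu, pow_one])
    obtain ⟨Q, hQ⟩ := hp.exists_le_sylow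
    obtain ⟨k, hk⟩ := MulAction.exists_smul_eq G Q S₀
    have humem : k * u * k⁻¹ ∈ (S₀ : Subgroup G) := by
      rw [← hk, Sylow.coe_subgroup_smul]
      simpa using Subgroup.smul_mem_pointwise_smul (a := MulAut.conj k) u (Q : Subgroup G)
        (hQ (mem_zpowers u))
    have huo : orderOf (k * u * k⁻¹) = 2 := (orderOf_conj_eq k u).trans hu
    set u' := k * u * k⁻¹
    suffices h : IsConj y u' from h.trans (isConj_iff.mpr ⟨k⁻¹, by simp [u', mul_assoc]⟩)
    by_contra hne
    have huy : u' ≠ y := fun h => hne (h ▸ IsConj.refl y)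
    obtain ⟨a, haS, hane⟩ := hNI S₀ u' huo humem
    have hao : orderOf (a * u' * a⁻¹) = 2 := (orderOf_conj_eq a u').trans huo
    have hconju : IsConj u' (a * u' * a⁻¹) := isConj_iff.mpr ⟨a, rfl⟩
    have hay : a * u' * a⁻¹ ≠ y := fun h => hne (h ▸ hconju).symm
    rcases three hx h3 hy huo hao (hyc u' humem).symm (hyc _ haS).symm huy hay with h | h
    · exact hane h
    obtain ⟨b, hbS, hbne⟩ := hNI S₀ y hyo hyS
    have hbo : orderOf (b * y * b⁻¹) = 2 := (orderOf_conj_eq b y).trans hyo
    have hconjy : IsConj y (b * y * b⁻¹) := isConj_iff.mpr ⟨b, rfl⟩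
    rcases three hx h3 hy huo hbo (hyc u' humem).symm (hyc _ hbS).symm huy hbne with h' | h'
    · exact hne (h' ▸ hconjy)
    · exact hne ((h' ▸ hconjy).trans (h ▸ hconju).symm)
  refine ⟨⟨g⁻¹ • S₀, fun r hr => mem_centralizer_singleton_iff.mpr ?_⟩,
    fun u v hu hv => (hclass u hu).symm.trans (hclass v hv)⟩
  rw [Sylow.coe_subgroup_smul] at hr
  obtain ⟨s, hs, rfl⟩ := hr
  have h1 := hyc s hs
  rw [← hg] at h1
  show g⁻¹ * s * g⁻¹⁻¹ * x = x * (g⁻¹ * s * g⁻¹⁻¹)
  calc g⁻¹ * s * g⁻¹⁻¹ * x = g⁻¹ * (s * (g * x * g⁻¹)) * g := by group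
    _ = g⁻¹ * (g * x * g⁻¹ * s) * g := by rw [h1]
    _ = x * (g⁻¹ * s * g⁻¹⁻¹) := by group

end Cfsg.Agent.Lib.InvCentThree
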