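import Cfsg.Agent.Lib.InvCentThree.Basic
import Cfsg.Agent.Lib.ZStar.Reduction
import Cfsg.Agent.Lib.Coprime.Glauberman

/-!
# Consequences of Glauberman's Z*-theorem, with that theorem as a hypothesis
-/

set_option autoImplicit false

namespace Cfsg.Agent.Lib.InvCentThree

open Subgroup
open Cfsg.Agent.Lib.Involutions.Basic

universe u

/-- The statement of the Z*-theorem for one group. -/
def ZStarAt (G : Type u) [Group G] : Prop :=
  ∀ (P : Sylow 2 G) (u : G), orderOf u = 2 → u ∈ P →
    (∀ g : G, g * u * g⁻¹ ∈ P → g * u * g⁻¹ = u) → Cfsg.Agent.Lib.ZStar.Reduction.ZCentral u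

variable {G : Type u} [Group G] [Finite G]

/-- The conclusion of S3279 from the Z*-theorem. -/
theorem simple_case [IsSimpleGroup G] (hZ : ZStarAt G) {x : G} (hx : orderOf x = 2)
    (h3 : Nat.card {u : ↥(centralizer ({x} : Set G)) // orderOf u = 2} ≤ 3) :
    (∃ S : Sylow 2 G, (S : Subgroup G) ≤ centralizer ({x} : Set G)) ∧
      ∀ u v : G, orderOf u = 2 → orderOf v = 2 → IsConj u v := by
  classical
  by_cases hcomm : ∀ a b : G, a * b = b * a
  · obtain ⟨S⟩ : Nonempty (Sylow 2 G) := inferInstance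
    refine ⟨⟨S, fun r _ => mem_centralizer_singleton_iff.mpr (hcomm r x)⟩, fun u v hu hv => ?_⟩
    have huN : (zpowers u).Normal := ⟨fun n hn g => by
      rwa [show g * n * g⁻¹ = n by rw [hcomm g n, mul_inv_cancel_right]]⟩
    have htop : zpowers u = ⊤ := huN.eq_bot_or_eq_top.resolve_left fun h =>
      invol_ne_one hu (zpowers_eq_bot.mp h)
    have hv' : v ∈ zpowers u := htop ▸ mem_top v
    obtain ⟨k, hk⟩ := mem_powers_iff_mem_zpowers.mpr hv'
    rcases Nat.even_or_odd k with ⟨j, rfl⟩ | ⟨j, rfl⟩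
    · refine absurd ?_ (invol_ne_one hv)
      rw [← hk]
      show u ^ (j + j) = 1
      rw [pow_add, ← (Commute.refl u).mul_pow, invol_mul_self hu, one_pow]
    · rw [← hk]
      show IsConj u (u ^ (2 * j + 1))
      rw [pow_succ, pow_mul, sq, invol_mul_self hu, one_pow, one_mul]
  · push Not at hcomm
    obtain ⟨a, b, hab⟩ := hcomm
    have hno2 : ∀ N : Subgroup G, N.index ≠ 2 := by
      intro N hN
      have hNn := Subgroup.normal_of_index_eq_two hN
      rcases hNn.eq_bot_or_eq_top with h | h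
      · subst h
        rw [index_bot] at hN
        haveI : Fact (Nat.Prime 2) := ⟨Nat.prime_two⟩
        exact hab ((@IsCyclic.commGroup G _ (isCyclic_of_prime_card hN)).mul_comm a b)
      · rw [h, index_top] at hN
        omega
    refine two_central_one_class hno2 (fun P u hu huP => ?_) hx h3
    by_contra hiso
    push Not at hiso
    obtain ⟨N, hN, hodd, hmem⟩ := hZ P u hu huP hiso
    have hNbot : N = ⊥ := hN.eq_bot_or_eq_top.resolve_right fun h => by
      rw [h, card_top] at hodd
      have h2 : 2 ∣ Nat.card G := hu ▸ orderOf_dvd_natCard u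
      exact absurd hodd (Nat.not_odd_iff_even.mpr (even_iff_two_dvd.mpr h2))
    have huc : u ∈ center G := mem_center_iff.mpr fun g => by
      have h := hmem g
      rw [hNbot, mem_bot] at h
      exact (mul_inv_eq_iff_eq_mul.mp (mul_inv_eq_one.mp h)).symm
    rcases (inferInstance : (center G).Normal).eq_bot_or_eq_top with h | h
    · rw [h, mem_bot] at huc
      exact invol_ne_one hu huc
    · exact hab (mem_center_iff.mp (h ▸ mem_top b) a)

/-- A class of involutions with `p`-power products: the derived subgroup is nilpotent. -/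
theorem pPower_class (hZ : ZStarAt G) {p : ℕ} (hp : p.Prime) (hodd : p ≠ 2) {D : Set G}
    (hinv : ∀ d ∈ D, orderOf d = 2) (hconj : ∃ d ∈ D, D = conjugatesOf d)
    (hgen : closure D = ⊤) (hprod : ∀ x ∈ D, ∀ y ∈ D, x ≠ y → ∃ k : ℕ, orderOf (x * y) = p ^ k) :
    Group.IsNilpotent ↥(commutator G) := by
  classical
  obtain ⟨d, hdD, hD⟩ := hconj
  have hd := hinv d hdD
  have hdd := invol_mul_self hd
  have hmemD : ∀ g : G, g * d * g⁻¹ ∈ D := fun g => by
    rw [hD]
    exact isConj_iff.mpr ⟨g, rfl⟩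
  haveI : Fact (Nat.Prime 2) := ⟨Nat.prime_two⟩
  haveI : Fact p.Prime := ⟨hp⟩
  obtain ⟨P, hP⟩ := (IsPGroup.of_card (n := 1)
    (by rw [Nat.card_zpowers, hd, pow_one]) : IsPGroup 2 (zpowers d)).exists_le_sylow
  have hdP : d ∈ (P : Subgroup G) := hP (mem_zpowers d)
  have hiso : ∀ g : G, g * d * g⁻¹ ∈ P → g * d * g⁻¹ = d := by
    intro g hg
    by_contra hne
    obtain ⟨k, hk⟩ := hprod _ (hmemD g) d hdD hne
    obtain ⟨j, hj⟩ := IsPGroup.iff_orderOf.1 P.2 ⟨g * d * g⁻¹ * d, mul_mem hg hdP⟩
    rw [Subgroup.orderOf_mk, hk] at hj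
    have h1 : p ^ k = 1 := by
      rcases Nat.eq_zero_or_pos k with rfl | hk0
      · exact pow_zero p
      · exfalso
        have h2 : p ∣ 2 ^ j := hj ▸ dvd_pow_self p hk0.ne'
        exact hodd ((Nat.prime_dvd_prime_iff_eq hp Nat.prime_two).mp (hp.dvd_of_dvd_pow h2))
    rw [h1, orderOf_eq_one_iff] at hk
    exact hne ((eq_inv_of_mul_eq_one_left hk).trans (inv_eq_of_mul_eq_one_right hdd))
  obtain ⟨N, hN, hNodd, hNmem⟩ := hZ P d hd hdP hiso
  -- inverted elements of `N` have `p`-power order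
  have hinvp : ∀ x ∈ N, d * x * d⁻¹ = x⁻¹ → ∃ k : ℕ, x ^ p ^ k = 1 := by
    intro x hx hxi
    have hox : Odd (orderOf x) := hNodd.of_dvd_nat (by
      have := orderOf_dvd_natCard (⟨x, hx⟩ : N)
      rwa [Subgroup.orderOf_mk] at this)
    obtain ⟨m, hm⟩ := hox
    set z := x ^ (m + 1) with hz
    have hzz : z * z = x := by
      rw [hz, ← pow_add, show m + 1 + (m + 1) = orderOf x + 1 by omega, pow_succ, pow_orderOf_eq_one,
        one_mul]
    have hdz : d * z * d⁻¹ = z⁻¹ := by rw [hz, ← conj_pow, hxi, inv_pow]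
    have he : x = d * (z⁻¹ * d * z⁻¹⁻¹) := by
      rw [inv_inv, show d * (z⁻¹ * d * z) = d * z⁻¹ * d⁻¹ * (d * d) * z by group, hdd, mul_one,
        show d * z⁻¹ * d⁻¹ = (d * z * d⁻¹)⁻¹ by group, hdz, inv_inv, hzz]
    by_cases heq : d = z⁻¹ * d * z⁻¹⁻¹
    · exact ⟨0, by rw [pow_zero, pow_one, he, ← heq, hdd]⟩
    · obtain ⟨k, hk⟩ := hprod _ hdD _ (hmemD z⁻¹) heq
      exact ⟨k, by rw [he, ← hk, pow_orderOf_eq_one]⟩
  -- an invariant Sylow `p`-subgroup of `N` contains the commutators with `d`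
  have hdN : zpowers d ≤ normalizer (N : Set G) := by
    rw [normalizer_eq_top_iff.mpr hN]; exact le_top
  have hcop : (Nat.card (zpowers d)).Coprime (Nat.card N) := by
    rw [Nat.card_zpowers, hd]
    exact Nat.coprime_two_left.mpr hNodd
  haveI hzs : Group.IsSolvable (zpowers d) :=
    Group.isSolvable_of_comm fun a b => mul_comm' a b
  set C := N ⊓ centralizer ({d} : Set G) with hC
  have hinvert : ∀ g : G, d * (d * g * d⁻¹ * g⁻¹) * d⁻¹ = (d * g * d⁻¹ * g⁻¹)⁻¹ := by
    intro g
    rw [show d * (d * g * d⁻¹ * g⁻¹) * d⁻¹ = d * d * g * d⁻¹ * g⁻¹ * d⁻¹ by group, hdd, one_mul,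
      inv_eq_of_mul_eq_one_right hdd]
    simp [mul_assoc, inv_eq_of_mul_eq_one_right hdd]
  obtain ⟨V, hV⟩ := Coprime.exists_invariant_sylow (A := zpowers d) (K := C)
    (by
      rw [zpowers_le, mem_normalizer_iff]
      intro g
      simp only [hC, mem_inf, mem_centralizer_singleton_iff]
      constructor
      · rintro ⟨h1, h2⟩
        rw [show d * g * d⁻¹ = g by rw [← h2, mul_inv_cancel_right]]
        exact ⟨h1, h2⟩
      · rintro ⟨h1, h2⟩
        have h3 : d * g * d⁻¹ = g := by
          have := congrArg (fun r => d⁻¹ * r) h2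
          simp only [← mul_assoc, inv_mul_cancel, one_mul, inv_mul_cancel_right] at this
          exact this.symm
        rw [h3] at h1 h2
        exact ⟨h1, h2⟩)
    (Nat.Coprime.coprime_dvd_right (card_dvd_of_le inf_le_left) hcop) (Or.inl hzs) p
  obtain ⟨Q, hVQ, hQ⟩ := Coprime.exists_invariant_sylow_ge hdN hcop (Or.inl hzs) p
    ((V : Subgroup C).map C.subtype) ((map_subtype_le _).trans inf_le_left) (V.2.map _) hV
  set R := (Q : Subgroup N).map N.subtype with hR
  have hRN : R ≤ N := map_subtype_le _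
  have hRp : IsPGroup p R := Q.2.map _
  -- every other prime: a Sylow subgroup centralised by `d`
  have hsup : ∀ g ∈ N, ∃ r ∈ R, ∃ c ∈ C, g = r * c := by
    have hother : ∀ l : ℕ, l.Prime → l ≠ p →
        (Nat.card C).factorization l = (Nat.card N).factorization l := by
      intro l hl hlp
      haveI : Fact l.Prime := ⟨hl⟩
      obtain ⟨L, hL⟩ := Coprime.exists_invariant_sylow hdN hcop (Or.inl hzs) l
      refine le_antisymm ((Nat.factorization_le_iff_dvd Nat.card_pos.ne' Nat.card_pos.ne').mpr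
        (card_dvd_of_le inf_le_left) l) ?_
      rw [← hl.pow_dvd_iff_le_factorization Nat.card_pos.ne',
        ← Coprime.card_sylow_map L]
      refine card_dvd_of_le fun y hy => mem_inf.mpr ⟨map_subtype_le _ hy, ?_⟩
      rw [mem_centralizer_singleton_iff]
      have hx : d * y * d⁻¹ * y⁻¹ ∈ (L : Subgroup N).map N.subtype :=
        mul_mem ((mem_normalizer_iff.mp (hL (mem_zpowers d)) y).mp hy) (inv_mem hy)
      obtain ⟨k, hk⟩ := hinvp _ (map_subtype_le _ hx) (hinvert y)
      obtain ⟨j, hj⟩ := (L.2.map N.subtype) ⟨_, hx⟩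
      have hj' : (d * y * d⁻¹ * y⁻¹) ^ l ^ j = 1 := congrArg Subtype.val hj
      have h1 : orderOf (d * y * d⁻¹ * y⁻¹) = 1 := Nat.eq_one_of_dvd_coprimes
        (((Nat.coprime_primes hp hl).mpr (Ne.symm hlp)).pow k j) (orderOf_dvd_of_pow_eq_one hk)
        (orderOf_dvd_of_pow_eq_one hj')
      exact (mul_inv_eq_iff_eq_mul.mp (mul_inv_eq_one.mp (orderOf_eq_one_iff.mp h1))).symm
    let R' : Subgroup N := (Q : Subgroup N)
    let C' : Subgroup N := C.subgroupOf N
    have hmeet : Nat.card (R' : Set N) * Nat.card (C' : Set N) ≥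
        Nat.card N * Nat.card ↥(R' ⊓ C') := by
      show Nat.card R' * Nat.card C' ≥ _
      have hC' : Nat.card C' = Nat.card C :=
        Nat.card_congr (subgroupOfEquivOfLe inf_le_left).toEquiv
      have hR' : Nat.card R' = p ^ (Nat.card N).factorization p := Q.card_eq_multiplicity
      have hRC : Nat.card ↥(R' ⊓ C') ∣ p ^ (Nat.card C).factorization p := by
        obtain ⟨j, hj⟩ := IsPGroup.iff_card.mp (Q.2.to_le (inf_le_left : R' ⊓ C' ≤ R'))
        rw [hj]
        refine Nat.pow_dvd_pow p ((hp.pow_dvd_iff_le_factorization Nat.card_pos.ne').mp ?_)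
        rw [← hj, ← hC']
        exact card_dvd_of_le inf_le_right
      have hval : Nat.card N * p ^ (Nat.card C).factorization p = Nat.card R' * Nat.card C' := by
        rw [hR', hC']
        refine Nat.eq_of_factorization_eq (Nat.mul_pos Nat.card_pos (Nat.pow_pos hp.pos)).ne'
          (Nat.mul_pos (Nat.pow_pos hp.pos) Nat.card_pos).ne' fun l => ?_
        rw [Nat.factorization_mul Nat.card_pos.ne' (Nat.pow_pos hp.pos).ne',
          Nat.factorization_mul (Nat.pow_pos hp.pos).ne' Nat.card_pos.ne',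
          hp.factorization_pow, hp.factorization_pow, Finsupp.add_apply, Finsupp.add_apply]
        by_cases hl : l.Prime
        · by_cases hlp : l = p
          · subst hlp; simp
          · simp [Finsupp.single_eq_of_ne hlp, hother l hl hlp]
        · rw [Nat.factorization_eq_zero_of_not_prime _ hl, Nat.factorization_eq_zero_of_not_prime _ hl,
            Finsupp.single_eq_of_ne (fun h : l = p => hl (h ▸ hp)), Finsupp.single_eq_of_ne (fun h : l = p => hl (h ▸ hp))]
      rw [← hval]
      exact Nat.mul_le_mul_left _ (Nat.le_of_dvd (Nat.pow_pos hp.pos) hRC)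
    intro g hg
    let f : R' ⧸ C'.subgroupOf R' → N ⧸ C' := Quotient.map' (fun a => (a : N)) fun a b hab => by
      rw [QuotientGroup.leftRel_apply] at hab ⊢
      exact hab
    have hf : Function.Injective f := by
      intro a b
      induction a using QuotientGroup.induction_on with
      | H a =>
        induction b using QuotientGroup.induction_on with
        | H b =>
          intro h
          have h' : ((a : N) : N ⧸ C') = ((b : N) : N ⧸ C') := h
          rw [QuotientGroup.eq] at h' ⊢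
          exact h'
    have h1 := card_eq_card_quotient_mul_card_subgroup (C'.subgroupOf R')
    have h2 := card_eq_card_quotient_mul_card_subgroup C'
    have h3 : Nat.card (C'.subgroupOf R') = Nat.card ↥(R' ⊓ C') := by
      rw [← inf_subgroupOf_right, inf_comm]
      exact Nat.card_congr (subgroupOfEquivOfLe inf_le_left).toEquiv
    have hle : Nat.card (N ⧸ C') ≤ Nat.card (R' ⧸ C'.subgroupOf R') := by
      have hpos : 0 < Nat.card C' * Nat.card ↥(R' ⊓ C') := Nat.mul_pos Nat.card_pos Nat.card_pos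
      refine Nat.le_of_mul_le_mul_right ?_ hpos
      calc Nat.card (N ⧸ C') * (Nat.card C' * Nat.card ↥(R' ⊓ C'))
          = Nat.card N * Nat.card ↥(R' ⊓ C') := by rw [h2]; ring
        _ ≤ Nat.card R' * Nat.card C' := hmeet
        _ = Nat.card (R' ⧸ C'.subgroupOf R') * (Nat.card C' * Nat.card ↥(R' ⊓ C')) := by
            rw [h1, h3]; ring
    obtain ⟨q, hq⟩ := ((Nat.bijective_iff_injective_and_card f).mpr
      ⟨hf, le_antisymm (Nat.card_le_card_of_injective f hf) hle⟩).2 ((⟨g, hg⟩ : N) : N ⧸ C')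
    induction q using QuotientGroup.induction_on with
    | H a =>
      have hq' : ((a : N) : N ⧸ C') = ((⟨g, hg⟩ : N) : N ⧸ C') := hq
      rw [QuotientGroup.eq] at hq'
      exact ⟨((a : N) : G), ⟨(a : N), a.2, rfl⟩, _, hq', by simp⟩
  have hcomR : ∀ g : G, d * g * d⁻¹ * g⁻¹ ∈ R := by
    intro g
    have hx := hNmem g
    set x := d * g * d⁻¹ * g⁻¹ with hxdef
    have hxi : d * x * d⁻¹ = x⁻¹ := hinvert g
    obtain ⟨r, hr, c, hc, hrc⟩ := hsup x hx
    have hcd : d * c * d⁻¹ = c := by
      rw [← mem_centralizer_singleton_iff.mp (mem_inf.mp hc).2, mul_inv_cancel_right]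
    have hr' : d * r * d⁻¹ ∈ R := (mem_normalizer_iff.mp (hQ (mem_zpowers d)) r).mp hr
    have h1 : x⁻¹ * x⁻¹ ∈ R := by
      have h2 : d * x * d⁻¹ * x⁻¹ = d * r * d⁻¹ * r⁻¹ := by
        rw [hrc, show d * (r * c) * d⁻¹ = d * r * d⁻¹ * (d * c * d⁻¹) by group, hcd]
        group
      rw [hxi] at h2
      rw [h2]
      exact mul_mem hr' (inv_mem hr)
    have hox : Odd (orderOf (x⁻¹)) := hNodd.of_dvd_nat (by
      have := orderOf_dvd_natCard (⟨x, hx⟩ : N)
      rwa [Subgroup.orderOf_mk, ← orderOf_inv] at this)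
    simpa using inv_mem (ZStar.Reduction.mem_of_sq_mem hox (by rw [sq]; exact h1))
  -- the commutators generate a normal subgroup containing the derived subgroup
  set K := closure {x : G | ∃ g : G, d * g * d⁻¹ * g⁻¹ = x} with hK
  have hKn : K.Normal := by
    refine ⟨fun x hx h => ?_⟩
    induction hx using closure_induction with
    | mem x hx =>
      obtain ⟨g, rfl⟩ := hx
      rw [show h * (d * g * d⁻¹ * g⁻¹) * h⁻¹ =
        (d * h * d⁻¹ * h⁻¹)⁻¹ * (d * (h * g) * d⁻¹ * (h * g)⁻¹) by group]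
      exact mul_mem (inv_mem (subset_closure ⟨h, rfl⟩)) (subset_closure ⟨h * g, rfl⟩)
    | one => simp
    | mul a b _ _ ha hb =>
      rw [show h * (a * b) * h⁻¹ = h * a * h⁻¹ * (h * b * h⁻¹) by group]
      exact mul_mem ha hb
    | inv a _ ha =>
      rw [show h * a⁻¹ * h⁻¹ = (h * a * h⁻¹)⁻¹ by group]
      exact inv_mem ha
  haveI := hKn
  have hle : commutator G ≤ K := by
    rw [← Subgroup.Normal.quotient_commutative_iff_commutator_le]
    have hall : ∀ g : G, (g : G ⧸ K) ∈ zpowers (d : G ⧸ K) := by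
      intro g
      have hg : g ∈ closure D := hgen ▸ mem_top g
      induction hg using closure_induction with
      | mem y hy =>
        rw [hD] at hy
        obtain ⟨k, rfl⟩ := isConj_iff.mp hy
        have h1 : ((k * d * k⁻¹ : G) : G ⧸ K) = (d : G ⧸ K) := by
          rw [QuotientGroup.eq]
          have h2 : d * k⁻¹ * d⁻¹ * k⁻¹⁻¹ ∈ K := subset_closure ⟨k⁻¹, rfl⟩
          have h3 := hKn.conj_mem _ h2 k
          rw [mul_inv_rev, mul_inv_rev, inv_inv, inv_eq_of_mul_eq_one_right hdd]
          rw [inv_eq_of_mul_eq_one_right hdd] at h3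
          simpa [mul_assoc] using h3
        rw [h1]
        exact mem_zpowers _
      | one => exact one_mem _
      | mul a b _ _ ha hb => rw [QuotientGroup.mk_mul]; exact mul_mem ha hb
      | inv a _ ha => rw [QuotientGroup.mk_inv]; exact inv_mem ha
    refine ⟨⟨fun a b => ?_⟩⟩
    induction a using QuotientGroup.induction_on with
    | H a =>
      induction b using QuotientGroup.induction_on with
      | H b =>
        obtain ⟨i, hi⟩ := mem_zpowers_iff.mp (hall a)
        obtain ⟨j, hj⟩ := mem_zpowers_iff.mp (hall b)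
        rw [← hi, ← hj, ← zpow_add, ← zpow_add, add_comm]
  have hKR : K ≤ R := by
    rw [hK, closure_le]
    rintro x ⟨g, rfl⟩
    exact hcomR g
  haveI := (hRp.to_le (hle.trans hKR)).isNilpotent
  infer_instance

end Cfsg.Agent.Lib.InvCentThree
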